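import Cfsg.Agent.H378.Eng.Chn

/-!
# Tables for `E₇`: the positive roots (helper378)

Generated; see `Dat`.
-/

set_option autoImplicit false
set_option maxRecDepth 100000

namespace Cfsg.Agent.H378.WL.E7Dat

open Cfsg.Agent.H378.Eng

/-- positive roots -/
def dat : Dat where
  l := 7
  A := [[2, 0, -1, 0, 0, 0, 0], [0, 2, 0, -1, 0, 0, 0], [-1, 0, 2, -1, 0, 0, 0], [0, -1, -1, 2, -1, 0, 0], [0, 0,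
    0, -1, 2, -1, 0], [0, 0, 0, 0, -1, 2, -1], [0, 0, 0, 0, 0, -1, 2]]
  rts := [([1, 0, 0, 0, 0, 0, 0], [2, 0, -1, 0, 0, 0, 0]), ([0, 1, 0, 0, 0, 0, 0], [0, 2, 0, -1, 0, 0, 0]), ([0, 0,
    1, 0, 0, 0, 0], [-1, 0, 2, -1, 0, 0, 0]), ([0, 0, 0, 1, 0, 0, 0], [0, -1, -1, 2, -1, 0, 0]), ([0, 0, 0, 0,
    1, 0, 0], [0, 0, 0, -1, 2, -1, 0]), ([0, 0, 0, 0, 0, 1, 0], [0, 0, 0, 0, -1, 2, -1]), ([0, 0, 0, 0, 0, 0,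
    1], [0, 0, 0, 0, 0, -1, 2]), ([1, 0, 1, 0, 0, 0, 0], [1, 0, 1, -1, 0, 0, 0]), ([0, 1, 0, 1, 0, 0, 0], [0, 1,
    -1, 1, -1, 0, 0]), ([0, 0, 1, 1, 0, 0, 0], [-1, -1, 1, 1, -1, 0, 0]), ([0, 0, 0, 1, 1, 0, 0], [0, -1, -1, 1,
    1, -1, 0]), ([0, 0, 0, 0, 1, 1, 0], [0, 0, 0, -1, 1, 1, -1]), ([0, 0, 0, 0, 0, 1, 1], [0, 0, 0, 0, -1, 1,
    1]), ([1, 0, 1, 1, 0, 0, 0], [1, -1, 0, 1, -1, 0, 0]), ([0, 1, 1, 1, 0, 0, 0], [-1, 1, 1, 0, -1, 0, 0]),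
    ([0, 1, 0, 1, 1, 0, 0], [0, 1, -1, 0, 1, -1, 0]), ([0, 0, 1, 1, 1, 0, 0], [-1, -1, 1, 0, 1, -1, 0]), ([0, 0,
    0, 1, 1, 1, 0], [0, -1, -1, 1, 0, 1, -1]), ([0, 0, 0, 0, 1, 1, 1], [0, 0, 0, -1, 1, 0, 1]), ([1, 1, 1, 1, 0,
    0, 0], [1, 1, 0, 0, -1, 0, 0]), ([1, 0, 1, 1, 1, 0, 0], [1, -1, 0, 0, 1, -1, 0]), ([0, 1, 1, 1, 1, 0, 0],
    [-1, 1, 1, -1, 1, -1, 0]), ([0, 1, 0, 1, 1, 1, 0], [0, 1, -1, 0, 0, 1, -1]), ([0, 0, 1, 1, 1, 1, 0], [-1,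
    -1, 1, 0, 0, 1, -1]), ([0, 0, 0, 1, 1, 1, 1], [0, -1, -1, 1, 0, 0, 1]), ([1, 1, 1, 1, 1, 0, 0], [1, 1, 0,
    -1, 1, -1, 0]), ([1, 0, 1, 1, 1, 1, 0], [1, -1, 0, 0, 0, 1, -1]), ([0, 1, 1, 2, 1, 0, 0], [-1, 0, 0, 1, 0,
    -1, 0]), ([0, 1, 1, 1, 1, 1, 0], [-1, 1, 1, -1, 0, 1, -1]), ([0, 1, 0, 1, 1, 1, 1], [0, 1, -1, 0, 0, 0, 1]),
    ([0, 0, 1, 1, 1, 1, 1], [-1, -1, 1, 0, 0, 0, 1]), ([1, 1, 1, 2, 1, 0, 0], [1, 0, -1, 1, 0, -1, 0]), ([1, 1,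
    1, 1, 1, 1, 0], [1, 1, 0, -1, 0, 1, -1]), ([1, 0, 1, 1, 1, 1, 1], [1, -1, 0, 0, 0, 0, 1]), ([0, 1, 1, 2, 1,
    1, 0], [-1, 0, 0, 1, -1, 1, -1]), ([0, 1, 1, 1, 1, 1, 1], [-1, 1, 1, -1, 0, 0, 1]), ([1, 1, 2, 2, 1, 0, 0],
    [0, 0, 1, 0, 0, -1, 0]), ([1, 1, 1, 2, 1, 1, 0], [1, 0, -1, 1, -1, 1, -1]), ([1, 1, 1, 1, 1, 1, 1], [1, 1,
    0, -1, 0, 0, 1]), ([0, 1, 1, 2, 2, 1, 0], [-1, 0, 0, 0, 1, 0, -1]), ([0, 1, 1, 2, 1, 1, 1], [-1, 0, 0, 1,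
    -1, 0, 1]), ([1, 1, 2, 2, 1, 1, 0], [0, 0, 1, 0, -1, 1, -1]), ([1, 1, 1, 2, 2, 1, 0], [1, 0, -1, 0, 1, 0,
    -1]), ([1, 1, 1, 2, 1, 1, 1], [1, 0, -1, 1, -1, 0, 1]), ([0, 1, 1, 2, 2, 1, 1], [-1, 0, 0, 0, 1, -1, 1]),
    ([1, 1, 2, 2, 2, 1, 0], [0, 0, 1, -1, 1, 0, -1]), ([1, 1, 2, 2, 1, 1, 1], [0, 0, 1, 0, -1, 0, 1]), ([1, 1,
    1, 2, 2, 1, 1], [1, 0, -1, 0, 1, -1, 1]), ([0, 1, 1, 2, 2, 2, 1], [-1, 0, 0, 0, 0, 1, 0]), ([1, 1, 2, 3, 2,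
    1, 0], [0, -1, 0, 1, 0, 0, -1]), ([1, 1, 2, 2, 2, 1, 1], [0, 0, 1, -1, 1, -1, 1]), ([1, 1, 1, 2, 2, 2, 1],
    [1, 0, -1, 0, 0, 1, 0]), ([1, 2, 2, 3, 2, 1, 0], [0, 1, 0, 0, 0, 0, -1]), ([1, 1, 2, 3, 2, 1, 1], [0, -1, 0,
    1, 0, -1, 1]), ([1, 1, 2, 2, 2, 2, 1], [0, 0, 1, -1, 0, 1, 0]), ([1, 2, 2, 3, 2, 1, 1], [0, 1, 0, 0, 0, -1,
    1]), ([1, 1, 2, 3, 2, 2, 1], [0, -1, 0, 1, -1, 1, 0]), ([1, 2, 2, 3, 2, 2, 1], [0, 1, 0, 0, -1, 1, 0]), ([1,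
    1, 2, 3, 3, 2, 1], [0, -1, 0, 0, 1, 0, 0]), ([1, 2, 2, 3, 3, 2, 1], [0, 1, 0, -1, 1, 0, 0]), ([1, 2, 2, 4,
    3, 2, 1], [0, 0, -1, 1, 0, 0, 0]), ([1, 2, 3, 4, 3, 2, 1], [-1, 0, 1, 0, 0, 0, 0]), ([2, 2, 3, 4, 3, 2, 1],
    [1, 0, 0, 0, 0, 0, 0])]
  par := [(0, 0), (1, 1), (2, 2), (3, 3), (4, 4), (5, 5), (6, 6), (0, 2), (1, 3), (2, 3), (3, 4), (4, 5), (5, 6), (0,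
    9), (1, 9), (1, 10), (2, 10), (3, 11), (4, 12), (0, 14), (0, 16), (1, 16), (1, 17), (2, 17), (3, 18), (0,
    21), (0, 23), (3, 21), (1, 23), (1, 24), (2, 24), (0, 27), (0, 28), (0, 30), (3, 28), (1, 30), (2, 31), (0,
    34), (0, 35), (4, 34), (3, 35), (2, 37), (0, 39), (0, 40), (4, 40), (2, 42), (2, 43), (0, 44), (5, 44), (3,
    45), (2, 47), (0, 48), (1, 49), (3, 50), (2, 51), (1, 53), (3, 54), (1, 56), (4, 56), (1, 58), (3, 59), (2,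
    60), (0, 61)]
  reps := []
  cj := []

end Cfsg.Agent.H378.WL.E7Dat
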