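import Cfsg.Agent.H378.WL.Tool
import Cfsg.Agent.H378.WL.E7Dat

/-!
# S3509, W-lemma for `E₇` (helper378)

Every element `w` of `W(E₇)` stabilises a subsystem of type `A₇` or `E₆`: `PsiSet hp cs (rep w) Ψ`.

The quadratic form `q7` on the root lattice is invariant.  The vector `r0 = α₂ + α₅ + α₇` is in the radical of the form
modulo 2 and `q7 r0 = 3` is odd, so `r0` is not of the form `w y - y + 2 z`; there is a homomorphism `lam` to `ℤ / 2`
with `lam ∘ w = lam`, `lam r0 = 1`.  The 64 sets of roots with `lam = 0` are irreducible.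
-/

set_option autoImplicit false
set_option linter.unusedSectionVars false

namespace Cfsg.Agent.H378.WL.E7

open CoxeterSystem Cfsg Cfsg.Lie Cfsg.Lie.ChevalleyDatum
open Cfsg.Agent.ChevalleyStructure Cfsg.Agent.ChevalleyStructure.Elts Cfsg.Agent.ChevalleyStructure.CoxeterGeom
  Cfsg.Agent.ChevalleyStructure.CoxeterGeomTypes Cfsg.Agent.ChevalleyStructure.NPerm
open Cfsg.Agent.Tits.Roots Cfsg.Agent.Tits.Core Cfsg.Agent.Nodes Cfsg.Agent.Nodes.Reps Cfsg.Agent.Nodes.RGDChev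
open Cfsg.Agent.H378.Eng Cfsg.Agent.H165.WL
open Cfsg.Agent.H378.WL.E7Dat (dat)

theorem row : RowOK (cartanOf chevE7 7) dat := by
  unfold RowOK
  decide +kernel

set_option maxRecDepth 100000 in
theorem chkR : dat.chkR = true := by decide +kernel

theorem chkN : nrm dat = true := by decide +kernel

theorem full : conn dat (List.range dat.rts.length) 62 = true := by decide +kernel

theorem top : vec chevE7 7 (chevE7.nroots - 1) = toF 7 (dat.gam 62) := by decide +kernel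

/-- the functional with the bits of `m` -/
def bits (m : ℕ) : Vc := (List.range 7).map fun i => if m.testBit i then 1 else 0

/-- the last root -/
def lst (m : ℕ) : ℕ := (sel dat [(bits m, 2)]).getLastD 0

theorem all_conn : ((List.range 128).all fun m =>
    (m.testBit 1 == (m.testBit 4 == m.testBit 6)) == false ||
      conn dat (sel dat [(bits m, 2)]) (lst m)) = true := by decide +kernel

theorem exists_bits : ∀ f : Fin 7 → ZMod 2, ∃ m < 128, ∀ i : Fin 7, (m.testBit i = true ↔ f i = 1) := by decide +kernel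

/-- the quadratic form -/
def q7 (x : Fin 7 → ℤ) : ℤ := x 0 * x 0 + x 1 * x 1 + x 2 * x 2 + x 3 * x 3 + x 4 * x 4 + x 5 * x 5 + x 6 * x 6 -
  x 0 * x 2 - x 1 * x 3 - x 2 * x 3 - x 3 * x 4 - x 4 * x 5 - x 5 * x 6

/-- the radical vector -/
def r0 : Fin 7 → ℤ := ![0, 1, 0, 0, 1, 0, 1]

variable {M : CoxeterMatrix (Fin 7)} (hp : IsType chevE7 7 M) {W : Type*} [Group W] (cs : CoxeterSystem M W)

/-- the Cartan matrix -/
def CM : Fin 7 → Fin 7 → ℤ :=
  ![![2, 0, -1, 0, 0, 0, 0], ![0, 2, 0, -1, 0, 0, 0], ![-1, 0, 2, -1, 0, 0, 0], ![0, -1, -1, 2, -1, 0, 0],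
    ![0, 0, 0, -1, 2, -1, 0], ![0, 0, 0, 0, -1, 2, -1], ![0, 0, 0, 0, 0, -1, 2]]

theorem cm : ∀ i j : Fin 7, cartanOf chevE7 7 i j = CM i j := by decide +kernel

theorem q7_sub (k : Fin 7) (x : Fin 7 → ℤ) :
    q7 (x - (∑ j, CM k j * x j) • (Pi.single k 1 : Fin 7 → ℤ)) = q7 x := by
  rw [Fin.sum_univ_seven]
  unfold q7
  simp only [Pi.sub_apply, Pi.smul_apply, smul_eq_mul, Pi.single_apply]
  fin_cases k <;> simp [CM] <;> ring

theorem q7_simple (k : Fin 7) (x : Fin 7 → ℤ) : q7 (rep cs hp.isCartan (cs.simple k) x) = q7 x := by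
  rw [rep_simple_eq]
  have h1 : pairing (cartanOf chevE7 7) k x = ∑ j : Fin 7, CM k j * x j := by
    unfold pairing
    exact Finset.sum_congr rfl fun j _ => by rw [cm]
  rw [h1]
  exact q7_sub k x

theorem q7_rep (w : W) (x : Fin 7 → ℤ) : q7 (rep cs hp.isCartan w x) = q7 x := by
  obtain ⟨ω, rfl⟩ := cs.wordProd_surjective w
  induction ω with
  | nil => rw [wordProd_nil, map_one]; rfl
  | cons k ω ih => rw [wordProd_cons, rep_mul_apply, q7_simple hp cs, ih]

theorem q7_r0 (y z : Fin 7 → ℤ) : ∃ k, q7 (r0 + y - 2 • z) = q7 y + 3 + 2 * k := by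
  refine ⟨((y 1 - 2 * z 1) - (y 3 - 2 * z 3) + (y 4 - 2 * z 4) - (y 5 - 2 * z 5) + (y 6 - 2 * z 6)) -
    (2 * (y 0 * z 0 + y 1 * z 1 + y 2 * z 2 + y 3 * z 3 + y 4 * z 4 + y 5 * z 5 + y 6 * z 6) -
      (y 0 * z 2 + z 0 * y 2) - (y 1 * z 3 + z 1 * y 3) - (y 2 * z 3 + z 2 * y 3) - (y 3 * z 4 + z 3 * y 4) -
      (y 4 * z 5 + z 4 * y 5) - (y 5 * z 6 + z 5 * y 6)) + 2 * q7 z, ?_⟩
  unfold q7 r0
  simp only [Pi.sub_apply, Pi.add_apply, nsmul_eq_mul, Nat.cast_ofNat]
  simp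
  ring

/-- the functional -/
theorem exists_lam (w : W) : ∃ lam : (Fin 7 → ℤ) →+ ZMod 2, (∀ y, lam (rep cs hp.isCartan w y) = lam y) ∧ lam r0 = 1 := by
  set N : AddSubgroup (Fin 7 → ℤ) :=
    { carrier := {x | ∃ y z : Fin 7 → ℤ, x = rep cs hp.isCartan w y - y + 2 • z}
      zero_mem' := ⟨0, 0, by rw [map_zero]; simp⟩
      add_mem' := by
        rintro _ _ ⟨y, z, rfl⟩ ⟨y', z', rfl⟩
        exact ⟨y + y', z + z', by rw [map_add, smul_add]; abel⟩
      neg_mem' := by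
        rintro _ ⟨y, z, rfl⟩
        exact ⟨-y, -z, by rw [map_neg, smul_neg]; abel⟩ } with hN
  have hr : r0 ∉ N := by
    rintro ⟨y, z, h⟩
    have h1 : rep cs hp.isCartan w y = r0 + y - 2 • z := by rw [h]; abel
    have h2 := q7_rep hp cs w y
    rw [h1] at h2
    obtain ⟨k, hk⟩ := q7_r0 y z
    omega
  let _ : Module (ZMod 2) ((Fin 7 → ℤ) ⧸ N) := AddCommGroup.zmodModule (n := 2) (by
    intro x
    obtain ⟨x, rfl⟩ := QuotientAddGroup.mk_surjective x
    rw [← QuotientAddGroup.mk_nsmul, QuotientAddGroup.eq_zero_iff]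
    exact ⟨0, x, by rw [map_zero]; simp⟩)
  have hne : ((r0 : (Fin 7 → ℤ) ⧸ N)) ≠ 0 := by
    rw [Ne, QuotientAddGroup.eq_zero_iff]
    exact hr
  obtain ⟨φ, hφ⟩ : ∃ φ : Module.Dual (ZMod 2) ((Fin 7 → ℤ) ⧸ N), φ (r0 : (Fin 7 → ℤ) ⧸ N) ≠ 0 := by
    by_contra hcon
    push Not at hcon
    exact hne ((Module.forall_dual_apply_eq_zero_iff (ZMod 2) _).1 hcon)
  refine ⟨φ.toAddMonoidHom.comp (QuotientAddGroup.mk' N), fun y => ?_, ?_⟩
  · show φ _ = φ _
    congr 1
    show ((rep cs hp.isCartan w y : Fin 7 → ℤ) : (Fin 7 → ℤ) ⧸ N) = (y : (Fin 7 → ℤ) ⧸ N)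
    rw [QuotientAddGroup.eq]
    exact ⟨-y, 0, by rw [map_neg]; simp⟩
  · show φ _ = 1
    have h2 : ∀ a : ZMod 2, a ≠ 0 → a = 1 := by decide
    exact h2 _ hφ

theorem lam_eq {lam : (Fin 7 → ℤ) →+ ZMod 2} {m : ℕ} (h : ∀ i : Fin 7, (m.testBit i = true ↔ lam (Pi.single i 1) = 1))
    (v : Fin 7 → ℤ) : lam v = ((dotF 7 (bits m) v : ℤ) : ZMod 2) := by
  have hc : ∀ i : Fin 7, (((bits m).getD i 0 : ℤ) : ZMod 2) = lam (Pi.single i 1) := by
    intro i
    have h1 : (bits m).getD i 0 = if m.testBit i then 1 else 0 := by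
      unfold bits
      rw [List.getD_eq_getElem _ _ (by simp), List.getElem_map, List.getElem_range]
    have h2 : ∀ a : ZMod 2, a ≠ 1 → a = 0 := by decide
    rw [h1]
    by_cases h3 : m.testBit i = true
    · rw [if_pos h3, (h i).1 h3]; simp
    · rw [if_neg h3, h2 _ fun h4 => h3 ((h i).2 h4)]; simp
  refine hom_ext (φ := lam) (ψ := (Int.castAddHom (ZMod 2)).comp (dotF 7 (bits m))) (fun i => ?_) v
  show lam (Pi.single i 1) = ((dotF 7 (bits m) (Pi.single i 1) : ℤ) : ZMod 2)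
  rw [← hc, dotF_apply]
  congr 1
  simp [Pi.single_apply]

/-- **W-lemma for `E₇`** -/
theorem exists_psi (w : W) : ∃ Ψ, PsiSet hp cs (fun v => rep cs hp.isCartan w v) Ψ := by
  obtain ⟨lam, h1, h2⟩ := exists_lam hp cs w
  obtain ⟨m, hm, hb⟩ := exists_bits fun i => lam (Pi.single i 1)
  have h3 := lam_eq hb
  have h4 := all_conn
  rw [List.all_eq_true] at h4
  have h5 := h4 m (List.mem_range.2 hm)
  rw [Bool.or_eq_true] at h5
  have h6 : conn dat (sel dat [(bits m, 2)]) (lst m) = true := by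
    rcases h5 with h5 | h5
    · exfalso
      have h7 : lam r0 = lam (Pi.single 1 1) + lam (Pi.single 4 1) + lam (Pi.single 6 1) := by
        rw [← map_add, ← map_add]
        congr 1
        funext i
        fin_cases i <;> simp [r0]
      rw [h2] at h7
      have b1 := hb 1
      have b4 := hb 4
      have b6 := hb 6
      have key : ∀ a b c : ZMod 2, ∀ x y z : Bool, 1 = a + b + c → (x = true ↔ a = 1) → (y = true ↔ b = 1) →
          (z = true ↔ c = 1) → ((x == (y == z)) == false) = false := by decide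
      have h8 := key _ _ _ _ _ _ h7 b1 b4 b6
      have h9 : ((m.testBit 1 == (m.testBit 4 == m.testBit 6)) == false) = false := h8
      rw [h9] at h5
      exact absurd h5 (by simp)
    · exact h5
  refine ⟨_, psiSet hp cs rfl row chkR chkN full top (C := [(bits m, 2)]) (fun c hc => ?_) h6 fun v hv hC => ⟨hv.act w, ?_⟩⟩
  · rw [List.mem_singleton.1 hc]
    simp [bits]
  · intro c hc
    have h7 := hC c hc
    rw [List.mem_singleton.1 hc] at h7 ⊢
    have h8 := h1 v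
    rw [h3, h3] at h8
    have h9 : ((dotF 7 (bits m) v : ℤ) : ZMod 2) = 0 := (ZMod.intCast_zmod_eq_zero_iff_dvd _ 2).2 h7
    rw [h9] at h8
    exact (ZMod.intCast_zmod_eq_zero_iff_dvd _ 2).1 h8

end Cfsg.Agent.H378.WL.E7
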