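import Cfsg.Agent.H165.WL.Defs
import Cfsg.Agent.H378.Eng.Chn

/-!
# S3509: sets of roots given by congruences (helper378)

`T : Dat` a table of the positive roots (simply laced), `C : Cd` a list of conditions `(c, m)` : `m ∣ c · v` (`m = 0`:
`c · v = 0`).  `conn T (sel T C) m = true` : the roots with the conditions form an irreducible set of rank `≥ 2`.
`psiSet` : the resulting `PsiSet`.
-/

set_option autoImplicit false
set_option linter.unusedSectionVars false

namespace Cfsg.Agent.H378.WL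

open CoxeterSystem Cfsg Cfsg.Lie Cfsg.Lie.ChevalleyDatum
open Cfsg.Agent.ChevalleyStructure Cfsg.Agent.ChevalleyStructure.Elts Cfsg.Agent.ChevalleyStructure.CoxeterGeom
  Cfsg.Agent.ChevalleyStructure.CoxeterGeomTypes Cfsg.Agent.ChevalleyStructure.NPerm
open Cfsg.Agent.Tits.Roots Cfsg.Agent.Tits.Core Cfsg.Agent.Nodes Cfsg.Agent.Nodes.Reps Cfsg.Agent.Nodes.RGDChev
open Cfsg.Agent.H378.Eng Cfsg.Agent.H165.WL

/-- conditions `m ∣ c · v` -/
abbrev Cd := List (Vc × ℕ)

/-- the conditions for a list vector -/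
def okB (C : Cd) (x : Vc) : Bool := C.all fun c => dot c.1 x % (c.2 : ℤ) == 0

/-- the pairing of two positive roots is `1` or `-1` -/
def adj (T : Dat) (s t : ℕ) : Bool :=
  (dot (T.cor s) (T.gam t) == 1 || dot (T.cor s) (T.gam t) == -1) && dot (T.cor t) (T.gam s) == dot (T.cor s) (T.gam t)

/-- the positive roots with the conditions -/
def sel (T : Dat) (C : Cd) : List ℕ := (List.range T.rts.length).filter fun r => okB C (T.gam r)

/-- connected, with last element `m` -/
def conn (T : Dat) (S : List ℕ) (m : ℕ) : Bool :=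
  (S.all fun s => s == m || S.any fun t => Nat.blt s t && adj T s t) && S.contains m && S.any fun s => adj T s m

theorem adj_symm {T : Dat} {s t : ℕ} (h : adj T s t = true) : adj T t s = true := by
  unfold adj at h ⊢
  simp only [Bool.and_eq_true, Bool.or_eq_true, beq_iff_eq] at h ⊢
  obtain ⟨h1, h2⟩ := h
  rw [h2]
  exact ⟨h1, rfl⟩

theorem conn_ind {T : Dat} {S : List ℕ} {m N : ℕ} (hN : ∀ s ∈ S, s < N) (hc : conn T S m = true) {B : ℕ → Prop}
    (hB : ∀ s ∈ S, ∀ t ∈ S, adj T s t = true → B s → B t) {s : ℕ} (hs : s ∈ S) (h : B s) : ∀ t ∈ S, B t := by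
  unfold conn at hc
  simp only [Bool.and_eq_true, List.all_eq_true, List.any_eq_true, Bool.or_eq_true, beq_iff_eq, List.contains_iff_mem] at hc
  obtain ⟨⟨h1, hm⟩, -⟩ := hc
  have up : ∀ k s, N - s = k → s ∈ S → B s → B m := by
    intro k
    induction k using Nat.strong_induction_on with
    | _ k ih =>
      intro s hk hs hb
      rcases h1 s hs with rfl | ⟨t, ht, h2, h3⟩
      · exact hb
      · have h4 : s < t := (Nat.blt_eq ..).mp h2
        have h5 := hN s hs
        exact ih (N - t) (by omega) t rfl ht (hB s hs t ht h3 hb)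
  have dn : ∀ k s, N - s = k → s ∈ S → B m → B s := by
    intro k
    induction k using Nat.strong_induction_on with
    | _ k ih =>
      intro s hk hs hb
      rcases h1 s hs with rfl | ⟨t, ht, h2, h3⟩
      · exact hb
      · have h4 : s < t := (Nat.blt_eq ..).mp h2
        have h5 := hN s hs
        exact hB t ht s hs (adj_symm h3) (ih (N - t) (by omega) t rfl ht hb)
  intro t ht
  exact dn _ t rfl ht (up _ s rfl hs h)

theorem conn_two {T : Dat} {S : List ℕ} {m : ℕ} (hc : conn T S m = true) : m ∈ S ∧ ∃ s ∈ S, adj T s m = true := by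
  unfold conn at hc
  simp only [Bool.and_eq_true, List.any_eq_true, List.contains_iff_mem] at hc
  exact ⟨hc.1.2, hc.2⟩

/-- every element has a neighbour -/
theorem conn_nb {T : Dat} {S : List ℕ} {m : ℕ} (hc : conn T S m = true) {s : ℕ} (hs : s ∈ S) :
    ∃ t ∈ S, adj T s t = true := by
  obtain ⟨-, u, hu, h1⟩ := conn_two hc
  unfold conn at hc
  simp only [Bool.and_eq_true, List.all_eq_true, List.any_eq_true, Bool.or_eq_true, beq_iff_eq, List.contains_iff_mem] at hc
  rcases hc.1.1 s hs with rfl | ⟨t, ht, -, h3⟩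
  · exact ⟨u, hu, adj_symm h1⟩
  · exact ⟨t, ht, h3⟩

section Sem

variable {l : ℕ}

/-- the conditions for a vector -/
def InC (l : ℕ) (C : Cd) (v : Fin l → ℤ) : Prop := ∀ c ∈ C, (c.2 : ℤ) ∣ dotF l c.1 v

theorem InC.add {C : Cd} {v u : Fin l → ℤ} (hv : InC l C v) (hu : InC l C u) : InC l C (v + u) := by
  intro c hc
  rw [map_add]
  exact dvd_add (hv c hc) (hu c hc)

theorem InC.neg {C : Cd} {v : Fin l → ℤ} (hv : InC l C v) : InC l C (-v) := by
  intro c hc
  rw [map_neg]
  exact (dvd_neg).2 (hv c hc)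

theorem okB_iff {C : Cd} (hC : ∀ c ∈ C, c.1.length ≤ l) (x : Vc) : okB C x = true ↔ InC l C (toF l x) := by
  unfold okB InC
  rw [List.all_eq_true]
  refine forall₂_congr fun c hc => ?_
  rw [beq_iff_eq, dotF_toF (hC c hc)]
  exact Int.dvd_iff_emod_eq_zero.symm

variable {D : ChevalleyDatum} {M : CoxeterMatrix (Fin l)} (hp : IsType D l M) {W : Type*} [Group W]
  (cs : CoxeterSystem M W) {T : Dat} (hT : T.l = l) (hA : RowOK (cartanOf D l) T) (hR : T.chkR = true)

include hT hR in
theorem act_cor {r : ℕ} (hr : r < T.rts.length) (hA : RowOK (cartanOf D l) T) : ∃ w : W, ∀ x : Vc,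
    rep cs hp.isCartan w (toF l x) = toF l x - dot (T.cor r) x • toF l (T.gam r) := by
  obtain ⟨w, hw⟩ := exists_elt cs hp.isCartan hT hA hR r hr
  refine ⟨w, fun x => ?_⟩
  rw [hw, dotF_toF (hT ▸ cor_length' hR r)]

include hT hA hR in
/-- adjacent: sum or difference is a root -/
theorem adj_root {s t : ℕ} (hs : s < T.rts.length) (ht : t < T.rts.length) (h : adj T s t = true) :
    IsRoot cs hp.isCartan (toF l (T.gam s) + toF l (T.gam t)) ∨
      IsRoot cs hp.isCartan (toF l (T.gam s) - toF l (T.gam t)) := by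
  unfold adj at h
  simp only [Bool.and_eq_true, Bool.or_eq_true, beq_iff_eq] at h
  obtain ⟨h1, h2⟩ := h
  obtain ⟨w, hw⟩ := act_cor hp cs hT hR ht hA
  have h3 := (root_gam cs hp.isCartan hT hA hR s hs).act w
  rw [hw, h2] at h3
  rcases h1 with h1 | h1
  · right
    rwa [h1, one_smul] at h3
  · left
    rwa [h1, neg_one_smul, sub_neg_eq_add] at h3

/-- the norm check -/
def nrm (T : Dat) : Bool := (List.range T.rts.length).all fun r => dot (T.cor r) (T.gam r) == 2

include hT hA hR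

/-- adjacent: conjugate -/
theorem adj_conj (hn : nrm T = true) {s t : ℕ} (hs : s < T.rts.length) (ht : t < T.rts.length)
    (h : adj T s t = true) : ∃ w : W, rep cs hp.isCartan w (toF l (T.gam s)) = toF l (T.gam t) := by
  unfold adj at h
  simp only [Bool.and_eq_true, Bool.or_eq_true, beq_iff_eq] at h
  obtain ⟨h1, h2⟩ := h
  unfold nrm at hn
  simp only [List.all_eq_true, beq_iff_eq] at hn
  obtain ⟨w, hw⟩ := act_cor hp cs hT hR ht hA
  obtain ⟨w', hw'⟩ := act_cor hp cs hT hR hs hA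
  have e1 : rep cs hp.isCartan (w' * w) (toF l (T.gam s)) =
      -(dot (T.cor s) (T.gam t) • toF l (T.gam t)) := by
    rw [rep_mul_apply, hw, h2, map_sub, map_smul, hw', hw', hn s (List.mem_range.2 hs)]
    rcases h1 with h1 | h1
    · rw [h1]; simp only [one_smul, two_smul]; abel
    · rw [h1]; simp only [neg_one_smul, two_smul]; abel
  rcases h1 with h1 | h1
  · refine ⟨w * (w' * w), ?_⟩
    rw [rep_mul_apply, e1, h1, one_smul, map_neg, hw, hn t (List.mem_range.2 ht), two_smul]
    abel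
  · exact ⟨w' * w, by rw [e1, h1, neg_one_smul, neg_neg]⟩

/-- `-γ` is conjugate to `γ` -/
theorem neg_conj (hn : nrm T = true) {t : ℕ} (ht : t < T.rts.length) :
    ∃ w : W, rep cs hp.isCartan w (toF l (T.gam t)) = -toF l (T.gam t) := by
  unfold nrm at hn
  simp only [List.all_eq_true, beq_iff_eq] at hn
  obtain ⟨w, hw⟩ := act_cor hp cs hT hR ht hA
  exact ⟨w, by rw [hw, hn t (List.mem_range.2 ht), two_smul]; abel⟩

/-- every root is conjugate to the last one -/
theorem all_long (hn : nrm T = true) {m : ℕ} (hc : conn T (List.range T.rts.length) m = true) {v : Fin l → ℤ}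
    (hv : IsRoot cs hp.isCartan v) : ∃ w : W, v = rep cs hp.isCartan w (toF l (T.gam m)) := by
  have key := conn_ind (N := T.rts.length) (fun s hs => List.mem_range.1 hs) hc
    (B := fun s => ∃ w : W, toF l (T.gam s) = rep cs hp.isCartan w (toF l (T.gam m)))
    (fun s hs t ht hst ⟨w, hw⟩ => by
      obtain ⟨w', hw'⟩ := adj_conj hp cs hT hA hR hn (List.mem_range.1 hs) (List.mem_range.1 ht) hst
      exact ⟨w' * w, by rw [rep_mul_apply, ← hw, hw']⟩)
    (conn_two hc).1 ⟨1, by rw [map_one]; rfl⟩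
  obtain ⟨b, hb, h1⟩ := exists_gam' cs hp.isCartan hT hA hR hv
  obtain ⟨r, hr, e1, -⟩ := exists_lt_of_mem hb
  obtain ⟨w, hw⟩ := key r (List.mem_range.2 hr)
  rcases h1 with rfl | rfl
  · exact ⟨w, by rw [← e1, hw]⟩
  · obtain ⟨w', hw'⟩ := neg_conj hp cs hT hA hR hn hr
    exact ⟨w' * w, by rw [rep_mul_apply, ← hw, hw', e1]⟩

/-- **The set of the roots with the conditions `C`.** -/
theorem psiSet (hn : nrm T = true) {m₀ : ℕ} (hc₀ : conn T (List.range T.rts.length) m₀ = true)
    (htop : vec D l (D.nroots - 1) = toF l (T.gam m₀)) {C : Cd} (hC : ∀ c ∈ C, c.1.length ≤ l) {m : ℕ}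
    (hc : conn T (sel T C) m = true) {θ : (Fin l → ℤ) → (Fin l → ℤ)}
    (hθ : ∀ v, IsRoot cs hp.isCartan v → InC l C v → IsRoot cs hp.isCartan (θ v) ∧ InC l C (θ v)) :
    PsiSet hp cs θ {v | IsRoot cs hp.isCartan v ∧ InC l C v} where
  root v hv := hv.1
  neg v hv := ⟨hv.1.neg, hv.2.neg⟩
  closed v hv u hu h := ⟨h, hv.2.add hu.2⟩
  stable v hv := hθ v hv.1 hv.2
  long v hv := by
    rw [htop]
    exact all_long hp cs hT hA hR hn hc₀ hv.1
  irr := by
    intro A hA' hne hcl
    have hsel : ∀ s, s ∈ sel T C ↔ s < T.rts.length ∧ InC l C (toF l (T.gam s)) := by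
      intro s
      unfold sel
      rw [List.mem_filter, List.mem_range, okB_iff hC]
    have hmem : ∀ s ∈ sel T C, toF l (T.gam s) ∈ {v | IsRoot cs hp.isCartan v ∧ InC l C v} := fun s hs =>
      ⟨root_gam cs hp.isCartan hT hA hR s ((hsel s).1 hs).1, ((hsel s).1 hs).2⟩
    have hmemn : ∀ s ∈ sel T C, -toF l (T.gam s) ∈ {v | IsRoot cs hp.isCartan v ∧ InC l C v} := fun s hs =>
      ⟨(hmem s hs).1.neg, (hmem s hs).2.neg⟩
    -- the step
    have step : ∀ s ∈ sel T C, ∀ t ∈ sel T C, adj T s t = true →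
        (toF l (T.gam s) ∈ A ∨ -toF l (T.gam s) ∈ A) → toF l (T.gam t) ∈ A ∧ -toF l (T.gam t) ∈ A := by
      intro s hs t ht hst hsA
      have h1 := adj_root hp cs hT hA hR ((hsel s).1 hs).1 ((hsel t).1 ht).1 hst
      have h1' : IsRoot cs hp.isCartan (-toF l (T.gam s) - toF l (T.gam t)) ∨
          IsRoot cs hp.isCartan (-toF l (T.gam s) + toF l (T.gam t)) := by
        rcases h1 with h1 | h1
        · left
          have := h1.neg
          rwa [neg_add, ← sub_eq_add_neg] at this
        · right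
          have := h1.neg
          rwa [neg_sub, sub_eq_neg_add] at this
      rcases hsA with hsA | hsA
      · refine ⟨hcl _ hsA _ (hmem t ht) h1, hcl _ hsA _ (hmemn t ht) ?_⟩
        rw [← sub_eq_add_neg, sub_neg_eq_add]
        exact h1.symm
      · refine ⟨hcl _ hsA _ (hmem t ht) h1'.symm, hcl _ hsA _ (hmemn t ht) ?_⟩
        rw [← sub_eq_add_neg, sub_neg_eq_add]
        exact h1'
    have tab : ∀ v, IsRoot cs hp.isCartan v ∧ InC l C v → ∃ s ∈ sel T C, v = toF l (T.gam s) ∨ v = -toF l (T.gam s) := by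
      rintro v ⟨hv, hvC⟩
      obtain ⟨b, hb, h1⟩ := exists_gam' cs hp.isCartan hT hA hR hv
      obtain ⟨r, hr, e1, -⟩ := exists_lt_of_mem hb
      rw [← e1] at h1
      refine ⟨r, (hsel r).2 ⟨hr, ?_⟩, h1⟩
      rcases h1 with rfl | rfl
      · exact hvC
      · have := hvC.neg
        rwa [neg_neg] at this
    obtain ⟨a, ha⟩ := hne
    obtain ⟨s, hs, h1⟩ := tab a (hA' ha)
    have hs' : toF l (T.gam s) ∈ A ∨ -toF l (T.gam s) ∈ A := by
      rcases h1 with rfl | rfl
      · exact Or.inl ha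
      · exact Or.inr ha
    have key := conn_ind (N := T.rts.length) (fun s hs => ((hsel s).1 hs).1) hc
      (B := fun s => toF l (T.gam s) ∈ A ∨ -toF l (T.gam s) ∈ A)
      (fun s hs t ht hst h => Or.inl (step s hs t ht hst h).1) hs hs'
    refine Set.Subset.antisymm hA' fun v hv => ?_
    obtain ⟨t, ht, h2⟩ := tab v hv
    obtain ⟨u, hu, h3⟩ := conn_nb hc ht
    have h4 := step u hu t ht (adj_symm h3) (key u hu)
    rcases h2 with rfl | rfl
    · exact h4.1
    · exact h4.2
  two := by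
    have hsel : ∀ s, s ∈ sel T C ↔ s < T.rts.length ∧ InC l C (toF l (T.gam s)) := by
      intro s
      unfold sel
      rw [List.mem_filter, List.mem_range, okB_iff hC]
    obtain ⟨hm, s, hs, h⟩ := conn_two hc
    have h1 := (hsel s).1 hs
    have h2 := (hsel m).1 hm
    rcases adj_root hp cs hT hA hR h1.1 h2.1 h with h3 | h3
    · exact ⟨_, ⟨root_gam cs hp.isCartan hT hA hR s h1.1, h1.2⟩, _, ⟨root_gam cs hp.isCartan hT hA hR m h2.1, h2.2⟩, h3⟩
    · rw [sub_eq_add_neg] at h3
      exact ⟨_, ⟨root_gam cs hp.isCartan hT hA hR s h1.1, h1.2⟩, _,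
        ⟨(root_gam cs hp.isCartan hT hA hR m h2.1).neg, h2.2.neg⟩, h3⟩

end Sem

end Cfsg.Agent.H378.WL
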